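/-
Tools for two-generation of the groups generated by orbit elements.

* `Ctx.conj_theta_nw` : a word moves the torus by the folded reflections.
* `Ctx.nw_inverts`, `Ctx.op_full`, `Ctx.op_pow`, `G0_le_of_op`, `two_generated_of_le`.
* `gen_of_orderOf` : an element outside every proper subfield generates the field additively.
-/
import Cfsg.Agent.Lib.TwistE6D4.Facts

set_option autoImplicit false

namespace Cfsg.Agent.TwistE6D4

open Cfsg.Lie Cfsg.Lie.ChevalleyDatum Cfsg.Agent.Chev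

variable {D : ChevalleyDatum} {K : Type*} [Field K]

theorem theta_eq_of_chiX {x y : Fin D.rank → Kˣ} (h : ∀ s < D.nroots, chiX x s = chiX y s) :
    theta D K x = theta D K y := by
  refine Units.ext ?_
  rw [coe_theta, coe_theta, ChevBN.dg, ChevBN.dg]
  congr 1
  ext b
  rcases b with i | q
  · rfl
  · simp [h q.val q.isLt]

theorem chiX_inv (x : Fin D.rank → Kˣ) (s : ℕ) : chiX x⁻¹ s = (chiX x s)⁻¹ := by
  simp [chiX, inv_zpow]

/-- Every additive subgroup containing `1` and stable under multiplication by `c` is everything. -/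
def AddGen (c : K) : Prop := ∀ A : AddSubgroup K, 1 ∈ A → (∀ t ∈ A, c * t ∈ A) → ∀ t, t ∈ A

theorem pow_mem_of_stable {A : AddSubgroup K} {c : K} (h1 : 1 ∈ A) (hc : ∀ t ∈ A, c * t ∈ A) :
    ∀ n : ℕ, c ^ n ∈ A
  | 0 => by rw [pow_zero]; exact h1
  | n + 1 => by rw [pow_succ']; exact hc _ (pow_mem_of_stable h1 hc n)

/-- A unit whose order exceeds every proper subfield generates the field additively. -/
theorem addGen_of_orderOf [Fintype K] {u : Kˣ} {q : ℕ} (hsub : ∀ E : Subfield K, E ≠ ⊤ → Nat.card E ≤ q)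
    (hu : q - 1 < orderOf u) : AddGen (u : K) := by
  intro A h1 hc t
  set S : Set K := {x | x ∈ A ∧ ∀ t ∈ A, x * t ∈ A} with hS
  let R : Subring K :=
    { carrier := S
      one_mem' := ⟨h1, fun t ht => by rwa [one_mul]⟩
      mul_mem' := fun {x y} hx hy => ⟨hx.2 y hy.1, fun t ht => by rw [mul_assoc]; exact hx.2 _ (hy.2 t ht)⟩
      zero_mem' := ⟨zero_mem _, fun t _ => by rw [zero_mul]; exact zero_mem _⟩
      add_mem' := fun {x y} hx hy => ⟨add_mem hx.1 hy.1, fun t ht => by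
        rw [add_mul]; exact add_mem (hx.2 t ht) (hy.2 t ht)⟩
      neg_mem' := fun {x} hx => ⟨neg_mem hx.1, fun t ht => by rw [neg_mul]; exact neg_mem (hx.2 t ht)⟩ }
  have hinv : ∀ x ∈ R, x⁻¹ ∈ R := by
    intro x hx
    by_cases h0 : x = 0
    · rw [h0, inv_zero]; exact zero_mem _
    · have e : x ^ (Fintype.card K - 1) = 1 := FiniteField.pow_card_sub_one_eq_one x h0
      have h2 : 2 ≤ Fintype.card K := Fintype.one_lt_card
      have e2 : x⁻¹ = x ^ (Fintype.card K - 2) := by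
        refine inv_eq_of_mul_eq_one_right ?_
        rw [← pow_succ', show Fintype.card K - 2 + 1 = Fintype.card K - 1 by omega, e]
      rw [e2]; exact pow_mem hx _
  let E : Subfield K := { R with inv_mem' := hinv }
  have huE : (u : K) ∈ E := ⟨by simpa using hc 1 h1, hc⟩
  by_cases hE : E = ⊤
  · exact (show t ∈ E by rw [hE]; exact Subfield.mem_top t).1
  · exfalso
    have h3 := hsub E hE
    letI : Fintype E := Fintype.ofFinite E
    have h4 : u ^ (Fintype.card E - 1) = 1 := by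
      refine Units.ext ?_
      have h5 := congrArg (Subtype.val : E → K)
        (FiniteField.pow_card_sub_one_eq_one (⟨(u : K), huE⟩ : E) fun e => u.ne_zero (congrArg Subtype.val e))
      simpa using h5
    have h6 := orderOf_le_of_pow_eq_one (by
      have : 2 ≤ Fintype.card E := Fintype.one_lt_card
      omega) h4
    rw [Nat.card_eq_fintype_card] at h3
    omega

theorem chiX_negRoot (hD : Good D) (x : Fin D.rank → Kˣ) {s : ℕ} (hs : s < D.nroots) :
    chiX x (D.neg s) = (chiX x s)⁻¹ := by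
  rw [chiX, chiX, ← Finset.prod_inv_distrib]
  refine Finset.prod_congr rfl fun i _ => ?_
  rw [hD.cartan_neg s hs i.val i.isLt, zpow_neg]

theorem chiX_list (hD : Good D) {ι : Type*} (i : ι → Fin D.rank) (x : Fin D.rank → Kˣ) : ∀ L : List ι,
    L.Pairwise (fun k l => D.cartan (i l).val (D.simple (i k).val) = 0) → ∀ {s : ℕ}, s < D.nroots →
      wL D (L.map fun k => D.simple (i k).val) s < D.nroots ∧
      chiX (x * (L.map fun k => (Pi.mulSingle (i k) (coefX (i k) x) : Fin D.rank → Kˣ)).prod)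
        (wL D (L.map fun k => D.simple (i k).val) s) = chiX x s
  | [], _, s, hs => ⟨hs, by simp [wL]⟩
  | k :: L, h, s, hs => by
    obtain ⟨h1, h2⟩ := List.pairwise_cons.1 h
    obtain ⟨hlt, ih⟩ := chiX_list hD i x L h2 hs
    set P := (L.map fun k => (Pi.mulSingle (i k) (coefX (i k) x) : Fin D.rank → Kˣ)).prod with hP
    have h0 : coefX (i k) P = 1 := by
      rw [hP, map_list_prod, List.map_map]
      refine List.prod_eq_one fun y hy => ?_
      obtain ⟨l, hl, rfl⟩ := List.mem_map.1 hy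
      simp [coefX_single, h1 l hl]
    have hk := hD.simple_lt _ (i k).isLt
    refine ⟨ChevSt.refl_lt hD hk hlt, ?_⟩
    have e : x * ((Pi.mulSingle (i k) (coefX (i k) x) : Fin D.rank → Kˣ) * P) = x * P * Pi.mulSingle (i k) (coefX (i k) (x * P)) := by
      rw [map_mul, h0, mul_one, mul_comm (Pi.mulSingle _ _) P, mul_assoc]
    simp only [List.map_cons, List.prod_cons, ← hP, e]
    show chiX _ (Chev.refl D (D.simple (i k).val) (wL D _ s)) = _
    rw [chiX_refl hD _ _ (ChevSt.refl_lt hD hk hlt), ChevSt.refl_refl hD hk hlt, ih]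

namespace Ctx

variable (C : Ctx D K)

theorem chiX_ns (a : Fin C.m) {x : Fin D.rank → Kˣ} (hx : x ∈ TorSym C.T C.φ) {s : ℕ} (hs : s < D.nroots) :
    chiX (x * C.torVec a (coefX (C.node a) x)) (wF C.T (C.node a) s) = chiX x s := by
  have h := (chiX_list C.hD (fun k => C.nd a k) x (List.range (C.L a))
    (range_pairwise fun k hk l hl hkl => (C.hR.orth_neg a l hl k hk (Ne.symm hkl)).2) hs).2
  simp only [← C.rk_eq, C.coefX_nd hx] at h
  exact h

theorem conj_theta_nw : ∀ (l : List (Fin C.m)) {x : Fin D.rank → Kˣ}, x ∈ TorSym C.T C.φ →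
    ∃ y ∈ TorSym C.T C.φ, C.rgd.nw l * theta D K x * (C.rgd.nw l)⁻¹ = theta D K y ∧
      ∀ s < D.nroots, wW C.T C.node l s < D.nroots ∧ chiX y (wW C.T C.node l s) = chiX x s
  | [], x, hx => ⟨x, hx, by simp, fun s hs => ⟨hs, rfl⟩⟩
  | a :: l, x, hx => by
    obtain ⟨y, hy, e, hχ⟩ := conj_theta_nw l hx
    refine ⟨_, mul_mem hy (C.torVec_mem a (C.coefX_Pm hy a)), ?_, fun s hs => ?_⟩
    · rw [RGD.RootData.nw_cons, ← C.ns_conj_theta a one_ne_zero hy, ← e]
      show C.ns a 1 * C.rgd.nw l * theta D K x * (C.ns a 1 * C.rgd.nw l)⁻¹ = _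
      group
    · obtain ⟨h1, h2⟩ := hχ s hs
      exact ⟨C.wF_lt a h1, by
        show chiX _ (wF C.T (C.node a) (wW C.T C.node l s)) = _
        rw [C.chiX_ns a hy h1, h2]⟩

/-- A word acting as minus one inverts the torus. -/
theorem nw_inverts {l : List (Fin C.m)} (hl : ∀ s < D.nroots, wW C.T C.node l s = D.neg s)
    {x : Fin D.rank → Kˣ} (hx : x ∈ TorSym C.T C.φ) :
    C.rgd.nw l * theta D K x * (C.rgd.nw l)⁻¹ = (theta D K x)⁻¹ := by
  obtain ⟨y, -, e, hχ⟩ := C.conj_theta_nw l hx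
  rw [e, ← map_inv]
  refine theta_eq_of_chiX fun s hs => ?_
  obtain ⟨-, h⟩ := hχ _ (C.hD.neg_lt s hs)
  rw [hl _ (C.hD.neg_lt s hs), C.hD.neg_neg s hs] at h
  rw [h, chiX_inv, chiX_negRoot C.hD x hs]

theorem op_param_add (a : Fin C.m) (t u : K) : C.op a (t + u) = C.op a t * C.op a u := by
  rw [C.op_eq, C.op_eq, C.op_eq, C.orb_add (C.hR.rep_simple a)]

theorem op_param_zero (a : Fin C.m) : C.op a (0 : K) = 1 := by rw [C.op_eq, C.orb_zero]

theorem op_pow (a : Fin C.m) (t : K) : ∀ n : ℕ, C.op a t ^ n = C.op a (n * t)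
  | 0 => by rw [pow_zero, Nat.cast_zero, zero_mul, C.op_param_zero]
  | n + 1 => by rw [pow_succ, op_pow a t n, ← C.op_param_add, Nat.cast_succ, add_mul, one_mul]

/-- All parameters are reached from one if a torus character generates the field additively. -/
theorem op_full {H : Subgroup (GL D.Idx K)} (a : Fin C.m) {x : Fin D.rank → Kˣ} (hx : x ∈ TorSym C.T C.φ)
    (hH : theta D K x ∈ H) (hgen : AddGen (chiX x (C.p a) : K))
    {t₀ : K} (ht₀ : t₀ ≠ 0) (h0 : C.op a t₀ ∈ H) (t : K) : C.op a t ∈ H := by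
  let A : AddSubgroup K :=
    { carrier := {u | C.op a (u * t₀) ∈ H}
      zero_mem' := by show C.op a (0 * t₀) ∈ H; rw [zero_mul, C.op_param_zero]; exact one_mem _
      add_mem' := fun {u v} hu hv => by
        show C.op a ((u + v) * t₀) ∈ H; rw [add_mul, C.op_param_add]; exact mul_mem hu hv
      neg_mem' := fun {u} hu => by
        show C.op a (-u * t₀) ∈ H; rw [neg_mul, ← C.op_inv]; exact inv_mem hu }
  have h1 : (1 : K) ∈ A := by show C.op a (1 * t₀) ∈ H; rwa [one_mul]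
  have h2 := hgen A h1 (fun u hu => by
    show C.op a ((chiX x (C.p a) : K) * u * t₀) ∈ H
    rw [mul_assoc, ← C.theta_conj_op hx]
    exact mul_mem (mul_mem hH hu) (inv_mem hH)) (t / t₀)
  have h3 : C.op a (t / t₀ * t₀) ∈ H := h2
  rwa [div_mul_cancel₀ _ ht₀] at h3

theorem om_mem_of_op {H : Subgroup (GL D.Idx K)} {l : List (Fin C.m)} (a : Fin C.m)
    (hl : ∃ i, wW C.T C.node l (C.p a) = C.T.rho^[i] (D.neg (C.p a))) (hn : C.rgd.nw l ∈ H)
    (hop : ∀ t, C.Pm a t → C.op a t ∈ H) {t : K} (ht : C.Pm a t) : C.om a t ∈ H := by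
  obtain ⟨i, hi⟩ := hl
  have hneg : D.neg (C.p a) < D.nroots := C.hD.neg_lt _ (C.p_lt a)
  have h1 : C.om a t ∈ C.rgd.U (C.rgd.ww l (C.rgd.simple a)) := by
    show _ ∈ C.Uo (C.rgd.ww l (C.rgd.simple a)).1
    rw [(C.ww_val l (C.rgd.simple a)).2]
    show _ ∈ C.Uo (C.repOf (wW C.T C.node l (C.p a)))
    rw [hi, C.repOf_rho hneg, C.repOf_self (r := D.neg (C.p a)) (C.hR.rep_negSimple a).1, C.om_eq]
    refine C.orb_mem_Uo (C.hR.rep_negSimple a).1 ?_
    rw [show C.T.len (D.neg (C.p a)) = C.L a from (C.hR.rep_negSimple a).2]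
    exact ht
  rw [← C.rgd.map_conj_U] at h1
  obtain ⟨y, hy, e⟩ := h1
  obtain ⟨u, hu, rfl⟩ := C.mem_Uo (C.hR.rep_simple a) (show y ∈ C.Uo (C.p a) from hy)
  rw [← C.op_eq] at e
  rw [← e]
  exact mul_mem (mul_mem hn (hop u hu)) (inv_mem hn)

theorem G0_le_of_op {H : Subgroup (GL D.Idx K)} {l : List (Fin C.m)}
    (hl : ∀ a, ∃ i, wW C.T C.node l (C.p a) = C.T.rho^[i] (D.neg (C.p a))) (hn : C.rgd.nw l ∈ H)
    (hop : ∀ a t, C.Pm a t → C.op a t ∈ H) : C.G0 ≤ H := by
  refine (Subgroup.closure_le _).2 ?_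
  rintro g ⟨a, t, ht, rfl | rfl⟩
  · exact hop a t ht
  · exact C.om_mem_of_op a (hl a) hn (hop a) ht

end Ctx

/-- A group is two-generated once every subgroup containing two of its elements contains it. -/
theorem two_generated_of_le {Γ : Type*} [Group Γ] {G : Subgroup Γ} {a b : Γ} (ha : a ∈ G) (hb : b ∈ G)
    (h : ∀ H : Subgroup Γ, a ∈ H → b ∈ H → G ≤ H) :
    ∃ a b : ↥G, Subgroup.closure ({a, b} : Set ↥G) = ⊤ := by
  refine ⟨⟨a, ha⟩, ⟨b, hb⟩, eq_top_iff.2 fun x _ => ?_⟩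
  obtain ⟨y, hy, e⟩ := h ((Subgroup.closure ({⟨a, ha⟩, ⟨b, hb⟩} : Set ↥G)).map G.subtype)
    ⟨⟨a, ha⟩, Subgroup.subset_closure (Set.mem_insert _ _), rfl⟩
    ⟨⟨b, hb⟩, Subgroup.subset_closure (Set.mem_insert_of_mem _ rfl), rfl⟩ x.2
  rwa [← Subtype.ext (a1 := y) (a2 := x) e]

end Cfsg.Agent.TwistE6D4
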