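/-
³D₄(q) is generated by two elements.

* `twistedD4_two_generated`.
-/
import Cfsg.Agent.Lib.TwistGen.Basic
import Cfsg.Agent.Lib.Chev.DataD4

set_option autoImplicit false
set_option maxRecDepth 100000

namespace Cfsg.Agent.TwistE6D4

open Cfsg.Lie Cfsg.Lie.ChevalleyDatum Cfsg.Agent.Chev

variable {K : Type*} [Field K] [Fintype K] {q : ℕ}

/-- The word acting as minus one. -/
def d4WGen : List (Fin 2) := (List.replicate 3 ([0, 1] : List (Fin 2))).flatten

theorem d4WGen_neg : ∀ s < chevD4.nroots, wW d4Twist d4Node d4WGen s = chevD4.neg s := by decide +kernel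

theorem card_subfield_le_sq (hq : 2 ≤ q) (hK : Fintype.card K = q ^ 3) (E : Subfield K) (hE : E ≠ ⊤) :
    Nat.card E ≤ q ^ 2 := by
  letI : Fintype E := Fintype.ofFinite E
  have hc := Module.card_eq_pow_finrank (K := E) (V := K)
  have hd : 2 ≤ Module.finrank E K := by
    have h1 : 0 < Module.finrank E K := Module.finrank_pos
    have h2 : Module.finrank E K ≠ 1 := by
      intro h
      rw [h, pow_one] at hc
      refine hE (eq_top_iff.2 fun x _ => ?_)
      obtain ⟨y, hy⟩ := ((Fintype.bijective_iff_injective_and_card (Subtype.val : E → K)).2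
        ⟨Subtype.val_injective, hc.symm⟩).2 x
      exact hy ▸ y.2
    omega
  rw [Nat.card_eq_fintype_card]
  have hE1 : 1 ≤ Fintype.card E := Fintype.card_pos
  have h1 : Fintype.card E ^ 2 ≤ (q ^ 2) ^ 2 :=
    calc Fintype.card E ^ 2 ≤ Fintype.card E ^ Module.finrank E K := Nat.pow_le_pow_right hE1 hd
      _ = q ^ 3 := by rw [← hc, hK]
      _ ≤ q ^ 4 := Nat.pow_le_pow_right (by omega) (by norm_num)
      _ = (q ^ 2) ^ 2 := by ring
  exact (Nat.pow_le_pow_iff_left two_ne_zero).1 h1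

theorem d4_torVec_values (hD : Good chevD4) (φ : K →+* K) (u : Kˣ) :
    let C := ctxD4 hD φ
    chiX (C.torVec (0 : Fin 2) u) (C.p (1 : Fin 2)) =
      (u * Units.map (φ : K →* K) u * Units.map (φ : K →* K) (Units.map (φ : K →* K) u))⁻¹ := by
  intro C
  have hnd : C.nd (0 : Fin 2) 0 = (0 : Fin 4) ∧ C.nd (0 : Fin 2) 1 = (2 : Fin 4) ∧
      C.nd (0 : Fin 2) 2 = (3 : Fin 4) ∧ C.nd (1 : Fin 2) 0 = (1 : Fin 4) :=
    ⟨rfl, rfl, rfl, rfl⟩
  have hL : C.L (0 : Fin 2) = 3 ∧ C.L (1 : Fin 2) = 1 := ⟨d4_len 0, d4_len 1⟩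
  have v0 := C.torVec_apply (0 : Fin 2) 0 u (l := 0) (by rw [hL.1]; norm_num)
  have v2 := C.torVec_apply (0 : Fin 2) 0 u (l := 1) (by rw [hL.1]; norm_num)
  have v3 := C.torVec_apply (0 : Fin 2) 0 u (l := 2) (by rw [hL.1]; norm_num)
  have v1 := C.torVec_apply (0 : Fin 2) 1 u (l := 0) (by rw [hL.2]; norm_num)
  rw [hnd.1, if_pos rfl, C.itU_zero] at v0
  rw [hnd.2.1, if_pos rfl, C.itU_succ, C.itU_zero] at v2
  rw [hnd.2.2.1, if_pos rfl, C.itU_succ, C.itU_succ, C.itU_zero] at v3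
  rw [hnd.2.2.2, if_neg (show ¬((0 : Fin 2) = 1) by decide)] at v1
  have hc : ∀ j : Fin 4, chevD4.cartan j.val (C.p (1 : Fin 2)) = ([-1, 2, -1, -1] : List ℤ).getD j.val 0 := by
    show ∀ j : Fin 4, chevD4.cartan j.val (chevD4.simple (d4Node 1).val) =
      ([-1, 2, -1, -1] : List ℤ).getD j.val 0
    decide +kernel
  show ∏ j : Fin 4, C.torVec (0 : Fin 2) u j ^ chevD4.cartan j.val (C.p (1 : Fin 2)) = _
  simp only [hc, Fin.prod_univ_four]
  rw [v0, v1, v2, v3]
  simp [C, mul_comm, mul_left_comm, mul_assoc]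

theorem twistedD4_two_generated (hD : Good chevD4) (hq : IsPrimePow q) (hK : Fintype.card K = q ^ 3) :
    ∃ a b : ↥(twistedD4 K q), Subgroup.closure ({a, b} : Set ↥(twistedD4 K q)) = ⊤ := by
  classical
  obtain ⟨φ, e, h⟩ := exists_ctxD4 hD hq hK
  rw [e]
  set C := ctxD4 hD φ with hC
  have hq2 : 2 ≤ q := hq.two_le
  let f : Kˣ →* Kˣ := Units.map (φ : K →* K)
  have hf : ∀ u : Kˣ, f u = u ^ q := fun u => Units.ext (by
    rw [Units.val_pow_eq_pow_val]; exact h.pow u)
  obtain ⟨s, hs⟩ := IsCyclic.exists_generator (α := Kˣ)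
  have hord : orderOf s = q ^ 3 - 1 := by
    rw [orderOf_eq_card_of_forall_mem_zpowers hs, Nat.card_units, Nat.card_eq_fintype_card, hK]
  have hf3 : ∀ u : Kˣ, f (f (f u)) = u := fun u => by
    rw [hf, hf, hf, ← pow_mul, ← pow_mul]
    refine Units.ext ?_
    rw [Units.val_pow_eq_pow_val, show q * (q * q) = Fintype.card K by rw [hK]; ring, FiniteField.pow_card]
  set c := s * s with hc
  set d := s * f s * f (f s) with hd
  have hfd : f d = d := by rw [hd, map_mul, map_mul, hf3]; ac_rfl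
  set lam := c * c * d⁻¹ with hlam
  -- the torus element
  let x : Fin chevD4.rank → Kˣ := (![c, d, f c, f (f c)] : Fin 4 → Kˣ)
  have hx : x ∈ TorSym d4Twist φ := by
    show ∀ i : Fin 4, (![c, d, f c, f (f c)] : Fin 4 → Kˣ) ((![2, 1, 3, 0] : Fin 4 → Fin 4) i) =
      f ((![c, d, f c, f (f c)] : Fin 4 → Kˣ) i)
    intro i
    fin_cases i <;> simp [hfd, hf3]
  have hχ : ∀ i : Fin 4, chiX x (chevD4.simple i.val) = ∏ j : Fin 4, (![c, d, f c, f (f c)] : Fin 4 → Kˣ) j ^
      ((([[2, -1, 0, 0], [-1, 2, -1, -1], [0, -1, 2, 0], [0, -1, 0, 2]] : List (List ℤ)).getD i.val []).getD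
        j.val 0) := fun i => by
    show ∏ j : Fin 4, x j ^ chevD4.cartan j.val (chevD4.simple i.val) = _
    refine Finset.prod_congr rfl fun j _ => ?_
    rw [d4_cartan_simple]
  have h0 : chiX x (C.p (0 : Fin 2)) = lam := by
    rw [show chiX x (C.p (0 : Fin 2)) = _ from hχ 0, hlam]
    simp [Fin.prod_univ_four, zpow_ofNat, pow_two]
  have h1 : chiX x (C.p (1 : Fin 2)) = 1 := by
    rw [show chiX x (C.p (1 : Fin 2)) = _ from hχ 1]
    simp [Fin.prod_univ_four, zpow_ofNat, pow_two]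
    rw [hc, hd, map_mul, map_mul]
    calc _ = (s * s * (f s * f s) * (f (f s) * f (f s)))⁻¹ *
        (s * s * (f s * f s) * (f (f s) * f (f s))) := by simp only [_root_.mul_inv_rev]; ac_rfl
      _ = 1 := inv_mul_cancel _
  -- its character generates the field
  have hgen : s ∈ Subgroup.zpowers lam := by
    set M := q * q + q + 1 with hM
    have hdM : d = s ^ M := by
      rw [hd, hf, hf, ← pow_mul, hM, pow_add, pow_add, pow_one]; ac_rfl
    have hlM : lam ^ M = d := by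
      have e4 : (c * c) ^ M = d * d * d * d := by
        rw [hc, hdM]; simp only [mul_pow]; ac_rfl
      have e3 : d ^ M = d * d * d := by
        rw [hM, pow_add, pow_add, pow_one, pow_mul, show d ^ q = d by rw [← hf, hfd],
          show d ^ q = d by rw [← hf, hfd]]
      rw [hlam, mul_pow, inv_pow, e4, e3]
      group
    have hd' : s ^ M ∈ Subgroup.zpowers lam := by
      rw [← hdM, ← hlM]; exact pow_mem (Subgroup.mem_zpowers lam) M
    have h4 : s ^ 4 ∈ Subgroup.zpowers lam := by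
      have : s ^ 4 = lam * s ^ M := by rw [← hdM, hlam, inv_mul_cancel_right, hc]; simp [pow_succ, mul_assoc]
      rw [this]; exact mul_mem (Subgroup.mem_zpowers lam) hd'
    have hodd : M % 2 = 1 := by
      have h2 : 2 ∣ q * q + q := by
        rw [show q * q + q = q * (q + 1) by ring]; exact (Nat.even_mul_succ_self q).two_dvd
      omega
    have h44 : s ^ (4 * (M / 4)) ∈ Subgroup.zpowers lam := by rw [pow_mul]; exact pow_mem h4 _
    have hr : s ^ (M % 4) ∈ Subgroup.zpowers lam := by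
      have : s ^ (M % 4) = (s ^ (4 * (M / 4)))⁻¹ * s ^ M := by
        rw [eq_inv_mul_iff_mul_eq, ← pow_add, Nat.div_add_mod]
      rw [this]; exact mul_mem (inv_mem h44) hd'
    rcases (show M % 4 = 1 ∨ M % 4 = 3 by omega) with e1 | e1 <;> rw [e1] at hr
    · simpa using hr
    · have : s = s ^ 4 * (s ^ 3)⁻¹ := by rw [pow_succ' s 3, mul_inv_cancel_right]
      rw [this]; exact mul_mem h4 (inv_mem hr)
  have hlamord : q ^ 2 - 1 < orderOf lam := by
    have h3 : orderOf s ∣ orderOf lam := orderOf_dvd_of_mem_zpowers hgen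
    have h5 := Nat.le_of_dvd (orderOf_pos lam) h3
    have h6 : q ^ 2 < q ^ 3 := Nat.pow_lt_pow_right (by omega) (by norm_num)
    have h7 : 0 < q ^ 2 := pow_pos (by omega) 2
    omega
  have hadd : AddGen (lam : K) := addGen_of_orderOf (card_subfield_le_sq hq2 hK) hlamord
  have hlam1 : lam ≠ 1 := fun e1 => by
    rw [e1, orderOf_one] at hlamord
    have : 2 ^ 2 ≤ q ^ 2 := Nat.pow_le_pow_left hq2 2
    omega
  -- the generators
  have hp1 := C.Pm_one (0 : Fin 2)
  have hp2 := C.Pm_one (1 : Fin 2)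
  have hθ := C.theta_mem_G0 hx
  have hn0 : C.rgd.nw d4WGen ∈ C.G0 := C.rgd_G ▸ C.rgd.N_le_G (C.rgd.nw_mem_N _)
  refine two_generated_of_le (mul_mem hθ (C.op_mem_G0 (1 : Fin 2) hp2))
    (mul_mem (C.op_mem_G0 (0 : Fin 2) hp1) hn0) fun H ha hb => ?_
  set N := Fintype.card K - 1 with hN
  have hcomm : Commute (theta chevD4 K x) (C.op (1 : Fin 2) 1) := by
    have h3 := C.theta_conj_op hx (1 : Fin 2) 1
    rw [h1, Units.val_one, one_mul, mul_inv_eq_iff_eq_mul] at h3
    exact h3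
  have hθN : theta chevD4 K x ^ N = 1 := by
    rw [← map_pow, show x ^ N = 1 from funext fun i => Units.ext (by
      rw [Pi.pow_apply, Units.val_pow_eq_pow_val]
      exact FiniteField.pow_card_sub_one_eq_one _ (x i).ne_zero), map_one]
  have hv : C.op (1 : Fin 2) 1 ∈ H := by
    have h3 := pow_mem ha N
    rw [hcomm.mul_pow, hθN, one_mul, C.op_pow, mul_one, hN, Nat.cast_sub Fintype.card_pos, Nat.cast_one,
      FiniteField.cast_card_eq_zero, zero_sub] at h3
    have := inv_mem h3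
    rwa [C.op_inv, _root_.neg_neg] at this
  have hth : theta chevD4 K x ∈ H := by
    have := mul_mem ha (inv_mem hv)
    rwa [mul_inv_cancel_right] at this
  have hu0 : C.op (0 : Fin 2) ((lam : K) * 1 + -1) ∈ H := by
    have h3 := mul_mem hth (mul_mem (mul_mem hb hth) (inv_mem hb))
    have e2 := C.nw_inverts (l := d4WGen) d4WGen_neg hx
    rw [show theta chevD4 K x * (C.op (0 : Fin 2) 1 * C.rgd.nw d4WGen * theta chevD4 K x *
        (C.op (0 : Fin 2) 1 * C.rgd.nw d4WGen)⁻¹) =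
      theta chevD4 K x * C.op (0 : Fin 2) 1 * (C.rgd.nw d4WGen * theta chevD4 K x * (C.rgd.nw d4WGen)⁻¹) *
        (C.op (0 : Fin 2) 1)⁻¹ by group, e2, C.theta_conj_op hx, h0, C.op_inv, ← C.op_param_add] at h3
    exact h3
  have hne : (lam : K) * 1 + -1 ≠ 0 := by
    rw [mul_one, ← sub_eq_add_neg, sub_ne_zero]
    exact fun e1 => hlam1 (Units.ext e1)
  have hop0 : ∀ t : K, C.op (0 : Fin 2) t ∈ H :=
    C.op_full (0 : Fin 2) hx hth (by rw [h0]; exact hadd) hne hu0
  have hn : C.rgd.nw d4WGen ∈ H := by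
    have := mul_mem (inv_mem (hop0 1)) hb
    rwa [inv_mul_cancel_left] at this
  have hl : ∀ a, ∃ i, wW C.T C.node d4WGen (C.p a) = C.T.rho^[i] (chevD4.neg (C.p a)) :=
    fun a => ⟨0, d4WGen_neg _ (C.p_lt a)⟩
  have hns : ∀ t : Kˣ, C.ns (0 : Fin 2) (t : K) ∈ H := fun t => by
    rw [C.ns_eq]
    refine mul_mem (mul_mem (hop0 _) (C.om_mem_of_op _ (hl _) hn (fun t _ => hop0 t) ?_)) (hop0 _)
    exact hyp_Pm h (a := (0 : Fin 2)) (d4_len 0) _
  refine C.G0_le_of_op hl hn fun a t ht => ?_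
  fin_cases a
  · exact hop0 t
  · change C.op (1 : Fin 2) t ∈ H
    by_cases ht0 : t = 0
    · rw [ht0, C.op_param_zero]; exact one_mem _
    have htq : t ^ q = t := by
      have h3 : (⇑φ)^[d4Twist.len (chevD4.simple (d4Node (1 : Fin 2)).val)] t = t := ht
      rw [d4_len] at h3
      rw [← h.pow]; exact h3
    obtain ⟨j, hj⟩ := (isOfFinOrder_of_finite s).mem_powers_iff_mem_zpowers.2 (hs (Units.mk0 t ht0)⁻¹)
    have hdvd : q * q + q + 1 ∣ j := by
      have h3 : (s ^ j) ^ (q - 1) = 1 := by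
        rw [show s ^ j = _ from hj, inv_pow, inv_eq_one]
        refine Units.ext ?_
        rw [Units.val_pow_eq_pow_val, Units.val_mk0, Units.val_one]
        refine mul_right_cancel₀ ht0 ?_
        rw [← pow_succ, Nat.sub_add_cancel (by omega), htq, one_mul]
      rw [← pow_mul] at h3
      have h4 := orderOf_dvd_of_pow_eq_one h3
      obtain ⟨r, rfl⟩ : ∃ r, q = r + 1 := ⟨q - 1, by omega⟩
      rw [hord, show (r + 1) ^ 3 - 1 = r * ((r + 1) * (r + 1) + (r + 1) + 1) by
        rw [Nat.sub_eq_iff_eq_add (Nat.one_le_pow _ _ (by omega))]; ring,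
        show r + 1 - 1 = r from rfl, mul_comm j r] at h4
      exact (mul_dvd_mul_iff_left (by omega)).1 h4
    obtain ⟨k, rfl⟩ := hdvd
    have hu : Units.mk0 t ht0 = (s ^ k * f (s ^ k) * f (f (s ^ k)))⁻¹ := by
      rw [← inv_inj, inv_inv]
      rw [← show s ^ ((q * q + q + 1) * k) = _ from hj, hf, hf, ← pow_mul, ← pow_mul, ← pow_add, ← pow_add]
      congr 1; ring
    have hP : C.Pm (0 : Fin 2) ((s ^ k : Kˣ) : K) := hyp_Pm h (a := (0 : Fin 2)) (d4_len 0) _
    have hθ0 : theta chevD4 K (C.torVec (0 : Fin 2) (s ^ k)) ∈ H := by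
      rw [show s ^ k = s ^ k * (-(-1 : Kˣ))⁻¹ by simp, ← C.ns_mul_ns]
      exact mul_mem (hns _) (hns _)
    have key := mul_mem (mul_mem hθ0 hv) (inv_mem hθ0)
    rw [C.theta_conj_op (C.torVec_mem (0 : Fin 2) hP), d4_torVec_values hD φ, mul_one, ← hu, Units.val_mk0] at key
    exact key

end Cfsg.Agent.TwistE6D4
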